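import Mathlib
import Groth.Agent.RzLib.UnivOpenRing
import Groth.Agent.FlatLib.StageFlat

/-!
# Flattening the closure of the generic fibre over valuations, and compactness of valuation subrings
-/

set_option autoImplicit false

universe u

open TensorProduct RzLib.UnivOpen

noncomputable section

namespace FlatModifLib

variable {A : Type u} [CommRing A]

/-- For a flat quotient of `O ⊗ R` the elements vanishing over a bigger domain vanish. -/
theorem ker_le_of_flat {R : Type u} [CommRing R] [Algebra A R] (O L : Type u) [CommRing O] [CommRing L]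
    [Algebra A O] [Algebra A L] [Algebra O L] [IsScalarTower A O L] (J : Ideal (O ⊗[A] R))
    [Module.Flat O ((O ⊗[A] R) ⧸ J)] (hinj : Function.Injective (algebraMap O L)) :
    RingHom.ker (bc (A₀ := A) (R := R) O L) ≤ J := by
  intro x hx
  let e : L ⊗[O] (O ⊗[A] R) ≃ₐ[L] L ⊗[A] R := Algebra.TensorProduct.cancelBaseChange A O L L R
  have he : ∀ y : O ⊗[A] R, e ((1 : L) ⊗ₜ[O] y) = bc (A₀ := A) (R := R) O L y := fun y => by
    induction y using TensorProduct.induction_on with
    | zero => simp [tmul_zero]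
    | tmul a r => simp [e, bc, Algebra.smul_def]
    | add y z hy hz => rw [tmul_add, map_add, map_add, hy, hz]
  have h1 : (1 : L) ⊗ₜ[O] x = (0 : L ⊗[O] (O ⊗[A] R)) :=
    e.injective (by rw [he, map_zero]; exact hx)
  have h2 : (1 : L) ⊗ₜ[O] Ideal.Quotient.mk J x = (0 : L ⊗[O] ((O ⊗[A] R) ⧸ J)) := by
    have h := congrArg (Algebra.TensorProduct.map (AlgHom.id O L) (Ideal.Quotient.mkₐ O J)) h1
    rw [map_zero, Algebra.TensorProduct.map_tmul] at h
    exact h
  exact Ideal.Quotient.eq_zero_iff_mem.mp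
    (Algebra.TensorProduct.includeRight_injective (R := O) (A := L) (B := (O ⊗[A] R) ⧸ J) hinj
      (h2.trans (map_zero _).symm))

/-- Flatness of a quotient over a ring is attained at a finitely generated subalgebra. -/
theorem exists_stage_flat {R : Type u} [CommRing R] [Algebra A R] [Algebra.FinitePresentation A R] (P V : Type u)
    [CommRing P] [CommRing V] [Algebra A P] [Algebra A V] [Algebra P V] [IsScalarTower A P V]
    (J : Ideal (P ⊗[A] R)) (hJ : J.FG)
    (hflat : Module.Flat V ((V ⊗[A] R) ⧸ J.map (bc (A₀ := A) (R := R) P V))) :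
    ∃ F : Finset V, ∀ (O : Type u) [CommRing O] [Algebra A O] [Algebra P O] [IsScalarTower A P O]
      (g : FlatLib.stg P F →ₐ[P] O),
        Module.Flat O ((O ⊗[A] R) ⧸ J.map (bc (A₀ := A) (R := R) P O)) := by
  haveI : Algebra.FinitePresentation P ((P ⊗[A] R) ⧸ J) := Algebra.FinitePresentation.quotient hJ
  obtain ⟨θ, hθ, hθk⟩ := exists_quotMap (A₀ := A) (R := R) P V J
  have hflat1 : Module.Flat V (V ⊗[P] ((P ⊗[A] R) ⧸ J)) :=
    Module.Flat.of_linearEquiv (((Ideal.quotientEquivAlgOfEq V hθk.symm).trans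
      (Ideal.quotientKerAlgEquivOfSurjective hθ)).toLinearEquiv.symm)
  have hcolim : FlatCA.IsDirectedColimitRing (fun F : Finset V => FlatLib.stg P F)
      (fun F F' h => (Subalgebra.inclusion (FlatLib.stg_mono (A := P) h)).toRingHom) V :=
    ⟨inferInstance, inferInstance, fun _ => rfl, fun _ _ _ _ _ => rfl, fun _ _ _ => rfl,
      fun a => ⟨{a}, ⟨a, Algebra.subset_adjoin (Finset.mem_singleton_self a)⟩, rfl⟩,
      fun i x hx => ⟨i, le_rfl, Subtype.ext hx⟩⟩
  obtain ⟨F₁, hF₁⟩ := (RichLib.FlatColimit.flat_iff_exists_stage (fun F : Finset V => FlatLib.stg P F)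
    (fun F F' h => Subalgebra.inclusion (FlatLib.stg_mono (A := P) h)) V hcolim (B₀ := (P ⊗[A] R) ⧸ J)
    ((P ⊗[A] R) ⧸ J)).1 hflat1
  refine ⟨F₁, fun O _ _ _ _ g => ?_⟩
  letI : Algebra (FlatLib.stg P F₁) O := g.toRingHom.toAlgebra
  haveI : IsScalarTower P (FlatLib.stg P F₁) O := IsScalarTower.of_algebraMap_eq fun a => (g.commutes a).symm
  obtain ⟨θ', hθ', hθ'k⟩ := exists_quotMap (A₀ := A) (R := R) P O J
  haveI : Module.Flat O (O ⊗[P] ((P ⊗[A] R) ⧸ J)) := by
    haveI := hF₁
    exact Module.Flat.of_linearEquiv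
      (AlgebraTensorModule.cancelBaseChange P (FlatLib.stg P F₁) O O ((P ⊗[A] R) ⧸ J)).symm
  exact Module.Flat.of_linearEquiv ((Ideal.quotientEquivAlgOfEq O hθ'k.symm).trans
    (Ideal.quotientKerAlgEquivOfSurjective hθ')).toLinearEquiv

/-- Over a valuation subring finitely many elements suffice to flatten the closure of the generic fibre. -/
theorem exists_flat_finset {K : Type u} [Field K] [Algebra A K] (R : Type u) [CommRing R] [Algebra A R]
    [Algebra.FinitePresentation A R] (V : ValuationSubring K) (hA : ∀ a, algebraMap A K a ∈ V) :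
    ∃ F : Finset K, (∀ x ∈ F, x ∈ V) ∧ ∀ (O L : Type u) [CommRing O] [Field L] [Algebra A O] [Algebra A L]
      [Algebra O L] [IsScalarTower A O L] (σ : K →ₐ[A] L), Function.Injective (algebraMap O L) →
        (∀ x ∈ F, σ x ∈ Set.range (algebraMap O L)) →
          Module.Flat O ((O ⊗[A] R) ⧸ RingHom.ker (bc (A₀ := A) (R := R) O L)) := by
  classical
  letI : Algebra A V := ((algebraMap A K).codRestrict V.toSubring hA).toAlgebra
  haveI : IsScalarTower A V K := IsScalarTower.of_algebraMap_eq fun _ => rfl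
  obtain ⟨t, ht, hsat⟩ := exists_gens (A₀ := A) (R := R) (V : Type u)
  have hflatV : Module.Flat V ((V ⊗[A] R) ⧸ torsIdeal (A₀ := A) (R := R) (V : Type u)) := by
    rw [Module.Flat.flat_iff_torsion_eq_bot_of_isBezout, eq_bot_iff]
    intro z hz
    obtain ⟨⟨c, hc⟩, hcz⟩ := (Submodule.mem_torsion_iff z).mp hz
    obtain ⟨x, rfl⟩ := Ideal.Quotient.mk_surjective z
    exact (Submodule.mem_bot _).mpr (Ideal.Quotient.eq_zero_iff_mem.mpr
      (hsat c x (nonZeroDivisors.ne_zero hc) (Ideal.Quotient.eq_zero_iff_mem.mp hcz)))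
  have hlift : ∀ x : V ⊗[A] R, ∃ (F : Finset V) (y : FlatLib.stg A F ⊗[A] R), ∀ (G : Finset V) (h : F ⊆ G),
      bc (A₀ := A) (R := R) (FlatLib.stg A G) V
        (Algebra.TensorProduct.map (Subalgebra.inclusion (FlatLib.stg_mono h)) (AlgHom.id A R) y) = x := fun x => by
    induction x using TensorProduct.induction_on with
    | zero => exact ⟨∅, 0, fun G h => by simp⟩
    | tmul a r =>
      exact ⟨{a}, ⟨a, Algebra.subset_adjoin (Finset.mem_singleton_self a)⟩ ⊗ₜ r, fun G h => rfl⟩
    | add x y hx hy =>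
      obtain ⟨F₁, y₁, h₁⟩ := hx
      obtain ⟨F₂, y₂, h₂⟩ := hy
      refine ⟨F₁ ∪ F₂, Algebra.TensorProduct.map (Subalgebra.inclusion (FlatLib.stg_mono (A := A) (F := F₁) (G := F₁ ∪ F₂) Finset.subset_union_left))
        (AlgHom.id A R) y₁ + Algebra.TensorProduct.map (Subalgebra.inclusion
          (FlatLib.stg_mono (A := A) (F := F₂) (G := F₁ ∪ F₂) Finset.subset_union_right)) (AlgHom.id A R) y₂, fun G h => ?_⟩
      have hcomp : ∀ {F F' : Finset V} (e : F ⊆ F') (e' : F' ⊆ G) (z : FlatLib.stg A F ⊗[A] R),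
          Algebra.TensorProduct.map (Subalgebra.inclusion (FlatLib.stg_mono e')) (AlgHom.id A R)
            (Algebra.TensorProduct.map (Subalgebra.inclusion (FlatLib.stg_mono e)) (AlgHom.id A R) z) =
          Algebra.TensorProduct.map (Subalgebra.inclusion (FlatLib.stg_mono (e.trans e'))) (AlgHom.id A R) z :=
        fun e e' z => by
          induction z using TensorProduct.induction_on with
          | zero => simp
          | tmul a r => rfl
          | add a b ha hb => simp only [map_add, ha, hb]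
      rw [map_add, map_add, hcomp Finset.subset_union_left h, hcomp Finset.subset_union_right h, h₁ G (Finset.union_subset_left h), h₂ G (Finset.union_subset_right h)]
  choose Fx yx hyx using hlift
  let F₀ : Finset V := t.biUnion Fx
  let P : Subalgebra A V := FlatLib.stg A F₀
  let tl : (V ⊗[A] R) → P ⊗[A] R := fun x => if h : Fx x ⊆ F₀ then
      Algebra.TensorProduct.map (Subalgebra.inclusion (FlatLib.stg_mono h)) (AlgHom.id A R) (yx x) else 0
  have htl : ∀ x ∈ t, bc (A₀ := A) (R := R) P V (tl x) = x := fun x hx => by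
    have h : Fx x ⊆ F₀ := Finset.subset_biUnion_of_mem Fx hx
    simp only [tl, dif_pos h]
    exact hyx x F₀ h
  let J : Ideal (P ⊗[A] R) := Ideal.span ((t.image tl : Finset _) : Set (P ⊗[A] R))
  have hJ : J.map (bc (A₀ := A) (R := R) P V) = torsIdeal (A₀ := A) (R := R) (V : Type u) := by
    rw [Ideal.map_span, ← ht, Finset.coe_image, ← Set.image_comp]
    congr 1
    exact (Set.image_congr fun x hx => htl x (Finset.mem_coe.mp hx)).trans (Set.image_id _)
  obtain ⟨F₁, hF₁⟩ := exists_stage_flat (A := A) (R := R) P V J ⟨_, rfl⟩ (hJ ▸ hflatV)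
  refine ⟨(F₀ ∪ F₁).image (fun v : V => (v : K)), fun x hx => ?_, fun O L _ _ _ _ _ _ σ hinj hF => ?_⟩
  · obtain ⟨v, -, rfl⟩ := Finset.mem_image.mp hx
    exact v.2
  let G : Subalgebra P V := FlatLib.stg P F₁
  -- a homomorphism from the stage
  let Rg : Subalgebra A L := (IsScalarTower.toAlgHom A O L).range
  let ψ : V →ₐ[A] L := σ.comp (IsScalarTower.toAlgHom A V K)
  have hP : ∀ v ∈ P, ψ v ∈ Rg := fun v hv => by
    refine (Algebra.adjoin_le (S := Rg.comap ψ) fun w hw => ?_) hv
    exact hF _ (Finset.mem_image_of_mem _ (Finset.mem_union_left _ hw))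
  have hG : ∀ v ∈ G, ψ v ∈ Rg := fun v hv => by
    induction hv using Algebra.adjoin_induction with
    | mem w hw => exact hF _ (Finset.mem_image_of_mem _ (Finset.mem_union_right _ hw))
    | algebraMap r => exact hP _ r.2
    | add x y _ _ hx hy => rw [map_add]; exact add_mem hx hy
    | mul x y _ _ hx hy => rw [map_mul]; exact mul_mem hx hy
  let eO : O ≃ₐ[A] Rg := AlgEquiv.ofInjective (IsScalarTower.toAlgHom A O L) hinj
  let gO : G →ₐ[A] O := eO.symm.toAlgHom.comp ((ψ.comp (G.val.restrictScalars A)).codRestrict Rg fun v => hG v v.2)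
  have hgO : ∀ v : G, algebraMap O L (gO v) = ψ v := fun v =>
    congrArg Subtype.val (eO.apply_symm_apply _)
  let gP : P →ₐ[A] O := gO.comp (IsScalarTower.toAlgHom A P G)
  letI : Algebra P O := gP.toRingHom.toAlgebra
  haveI : IsScalarTower A P O := IsScalarTower.of_algebraMap_eq fun a => (gP.commutes a).symm
  have hflat2 : Module.Flat O ((O ⊗[A] R) ⧸ J.map (bc (A₀ := A) (R := R) P O)) :=
    hF₁ O { gO.toRingHom with commutes' := fun a => rfl }
  haveI := hflat2
  have hker : RingHom.ker (bc (A₀ := A) (R := R) O L) = J.map (bc (A₀ := A) (R := R) P O) := by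
    refine le_antisymm (ker_le_of_flat O L _ hinj) ?_
    rw [Ideal.map_le_iff_le_comap, Ideal.span_le]
    intro y hy
    obtain ⟨x, hx, rfl⟩ := Finset.mem_image.mp (Finset.mem_coe.mp hy)
    obtain ⟨c, hc, hcx⟩ : x ∈ torsIdeal (A₀ := A) (R := R) (V : Type u) := ht ▸ Ideal.subset_span hx
    let m : V ⊗[A] R →ₐ[A] L ⊗[A] R := Algebra.TensorProduct.map ψ (AlgHom.id A R)
    have h3 : ∀ z : P ⊗[A] R, bc (A₀ := A) (R := R) O L (bc (A₀ := A) (R := R) P O z) =
        m (bc (A₀ := A) (R := R) P V z) := fun z => by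
      induction z using TensorProduct.induction_on with
      | zero => simp
      | tmul a r =>
        show algebraMap O L (gP a) ⊗ₜ[A] r = ψ (a : V) ⊗ₜ[A] r
        exact congrArg (· ⊗ₜ[A] r) (hgO _)
      | add a b ha hb => simp only [map_add, ha, hb]
    show bc (A₀ := A) (R := R) O L (bc (A₀ := A) (R := R) P O (tl x)) = 0
    rw [h3, htl x hx]
    have h4 : (ψ c ⊗ₜ[A] (1 : R)) * m x = 0 := by
      have h5 := congrArg m hcx
      rw [Algebra.smul_def, map_mul, map_zero] at h5
      exact h5
    have hu : IsUnit (ψ c ⊗ₜ[A] (1 : R)) :=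
      (isUnit_iff_ne_zero.mpr fun h0 => hc (Subtype.ext (by
        have : σ (c : K) = 0 := h0
        simpa using this))).map (Algebra.TensorProduct.includeLeft : L →ₐ[A] L ⊗[A] R)
    exact hu.mul_right_eq_zero.mp h4
  rw [hker]
  infer_instance

/-- The valuation subrings containing the base form a compact space. -/
theorem exists_finite_valSubring_cover {K : Type u} [Field K] [Algebra A K] (P : Finset K → Prop)
    (h : ∀ V : ValuationSubring K, (∀ a, algebraMap A K a ∈ V) → ∃ F : Finset K, P F ∧ ∀ x ∈ F, x ∈ V) :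
    ∃ Fs : Finset (Finset K), (∀ F ∈ Fs, P F) ∧
      ∀ V : ValuationSubring K, (∀ a, algebraMap A K a ∈ V) → ∃ F ∈ Fs, ∀ x ∈ F, x ∈ V := by
  classical
  let S : Set (K → Bool) := {s | (∀ a, s (algebraMap A K a) = true) ∧
    (∀ x y, s x = true → s y = true → s (x + y) = true) ∧ (∀ x y, s x = true → s y = true → s (x * y) = true) ∧
    (∀ x, s x = true → s (-x) = true) ∧ ∀ x, s x = true ∨ s x⁻¹ = true}
  have hc : ∀ x : K, ∀ b : Bool, IsClosed {s : K → Bool | s x = b} := fun x b =>
    IsClosed.preimage (f := fun s : K → Bool => s x) (continuous_apply x) (isClosed_discrete ({b} : Set Bool))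
  have ho : ∀ x : K, ∀ b : Bool, IsOpen {s : K → Bool | s x = b} := fun x b =>
    IsOpen.preimage (f := fun s : K → Bool => s x) (continuous_apply x) (isOpen_discrete ({b} : Set Bool))
  have himp : ∀ (x : K) {T : Set (K → Bool)}, IsClosed T → IsClosed {s : K → Bool | s x = true → s ∈ T} :=
    fun x T hT => by
      have : {s : K → Bool | s x = true → s ∈ T} = {s | s x = true}ᶜ ∪ T := by
        ext s; exact imp_iff_not_or
      rw [this]
      exact (ho x true).isClosed_compl.union hT
  have hS : IsCompact S := by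
    refine IsClosed.isCompact ?_
    have e : S = (⋂ a : A, {s | s (algebraMap A K a) = true}) ∩
        ((⋂ (x) (y), {s | s x = true → s ∈ {s | s y = true → s ∈ {s : K → Bool | s (x + y) = true}}}) ∩
        ((⋂ (x) (y), {s | s x = true → s ∈ {s | s y = true → s ∈ {s : K → Bool | s (x * y) = true}}}) ∩
        ((⋂ x, {s | s x = true → s ∈ {s : K → Bool | s (-x) = true}}) ∩
          ⋂ x, ({s | s x = true} ∪ {s : K → Bool | s x⁻¹ = true})))) := by
      ext s
      simp only [S, Set.mem_setOf_eq, Set.mem_inter_iff, Set.mem_iInter, Set.mem_union]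
    rw [e]
    exact (isClosed_iInter fun a => hc _ _).inter
      ((isClosed_iInter fun x => isClosed_iInter fun y => himp _ (himp _ (hc _ _))).inter
      ((isClosed_iInter fun x => isClosed_iInter fun y => himp _ (himp _ (hc _ _))).inter
      ((isClosed_iInter fun x => himp _ (hc _ _)).inter
        (isClosed_iInter fun x => (hc _ _).union (hc _ _)))))
  let N : {F : Finset K // P F} → Set (K → Bool) := fun F => {s | ∀ x ∈ F.1, s x = true}
  have hN : ∀ F, IsOpen (N F) := fun F => by
    have : N F = ⋂ x ∈ F.1, {s : K → Bool | s x = true} := by ext s; simp [N]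
    rw [this]
    exact isOpen_biInter_finset fun x _ => ho x true
  obtain ⟨T, hT⟩ := hS.elim_finite_subcover N hN fun s hs => by
    obtain ⟨hA, hadd, hmul, hneg, htot⟩ := hs
    let V : ValuationSubring K :=
      { carrier := {x | s x = true}
        mul_mem' := fun ha hb => hmul _ _ ha hb
        one_mem' := by simpa using hA 1
        add_mem' := fun ha hb => hadd _ _ ha hb
        zero_mem' := by simpa using hA 0
        neg_mem' := fun ha => hneg _ ha
        mem_or_inv_mem' := htot }
    obtain ⟨F, hPF, hF⟩ := h V hA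
    exact Set.mem_iUnion.mpr ⟨⟨F, hPF⟩, hF⟩
  refine ⟨T.image Subtype.val, fun F hF => ?_, fun V hA => ?_⟩
  · obtain ⟨F', -, rfl⟩ := Finset.mem_image.mp hF
    exact F'.2
  have hv : (fun x => decide (x ∈ V)) ∈ S := by
    refine ⟨fun a => decide_eq_true (hA a), fun x y hx hy => ?_, fun x y hx hy => ?_, fun x hx => ?_, fun x => ?_⟩
    · exact decide_eq_true (add_mem (of_decide_eq_true hx) (of_decide_eq_true hy))
    · exact decide_eq_true (mul_mem (of_decide_eq_true hx) (of_decide_eq_true hy))
    · exact decide_eq_true (neg_mem (of_decide_eq_true hx))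
    · exact (V.mem_or_inv_mem x).imp decide_eq_true decide_eq_true
  obtain ⟨F, hFT, hF⟩ := Set.mem_iUnion₂.mp (hT hv)
  exact ⟨F.1, Finset.mem_image_of_mem _ hFT, fun x hx => of_decide_eq_true (hF x hx)⟩

end FlatModifLib
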