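import Mathlib
import Groth.Agent.FlatModifLib.Ring

/-!
# An ideal whose invertibility flattens the closure of the generic fibre
-/

set_option autoImplicit false

universe u

open TensorProduct RzLib.UnivOpen

noncomputable section

namespace FlatModifLib

/-- In a local domain a factor of a product which is a nonzero principal ideal is principal, generated by a member
of any generating set. -/
theorem exists_generator_of_mul {O : Type u} [CommRing O] [IsDomain O] [IsLocalRing O] {I J : Ideal O} {g : O}
    (hg : g ≠ 0) (h : I * J = Ideal.span {g}) {s : Set O} (hs : Ideal.span s = I) :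
    ∃ i ∈ s, i ≠ 0 ∧ I = Ideal.span {i} := by
  -- some product of a generator and an element of `J` generates
  obtain ⟨i, hi, j, hj, u, hu, hij⟩ : ∃ i ∈ s, ∃ j ∈ J, ∃ u : O, IsUnit u ∧ i * j = u * g := by
    by_contra hcon
    simp only [not_exists, not_and] at hcon
    have hle : I * J ≤ IsLocalRing.maximalIdeal O * Ideal.span {g} := by
      rw [← hs, Ideal.mul_le]
      intro a ha b hb
      induction ha using Submodule.span_induction with
      | mem a ha =>
        have hab : a * b ∈ Ideal.span {g} := h ▸ Ideal.mul_mem_mul (hs ▸ Ideal.subset_span ha) hb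
        obtain ⟨u, hu⟩ := Ideal.mem_span_singleton'.mp hab
        rw [← hu]
        exact Ideal.mul_mem_mul (fun hu' => hcon a ha b hb u hu' hu.symm) (Ideal.mem_span_singleton_self g)
      | zero => rw [zero_mul]; exact zero_mem _
      | add x y _ _ hx hy => rw [add_mul]; exact add_mem hx hy
      | smul r x _ hx => rw [smul_eq_mul, mul_assoc]; exact Ideal.mul_mem_left _ r hx
    obtain ⟨c, hc, hcg⟩ := Ideal.mem_mul_span_singleton.mp (hle (h ▸ Ideal.mem_span_singleton_self g))
    have : c = 1 := mul_right_cancel₀ hg (by rw [hcg, one_mul])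
    exact (IsLocalRing.maximalIdeal.isMaximal O).ne_top ((Ideal.eq_top_iff_one _).mpr (this ▸ hc))
  refine ⟨i, hi, fun h0 => hg ?_, le_antisymm (fun a ha => ?_)
    ((Ideal.span_singleton_le_iff_mem _).mpr (hs ▸ Ideal.subset_span hi))⟩
  · rw [h0, zero_mul] at hij
    exact hu.mul_right_eq_zero.mp hij.symm
  · have haj : a * j ∈ Ideal.span {g} := h ▸ Ideal.mul_mem_mul ha hj
    obtain ⟨w, hw⟩ := Ideal.mem_span_singleton'.mp haj
    have hj0 : j ≠ 0 := fun h0 => hg (hu.mul_right_eq_zero.mp (by rw [← hij, h0, mul_zero]))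
    refine Ideal.mem_span_singleton'.mpr ⟨w * ↑hu.unit⁻¹, mul_right_cancel₀ hj0 ?_⟩
    calc w * ↑hu.unit⁻¹ * i * j = w * ↑hu.unit⁻¹ * (i * j) := by ring
      _ = w * (↑hu.unit⁻¹ * u) * g := by rw [hij]; ring
      _ = a * j := by rw [IsUnit.val_inv_mul, mul_one, hw]

/-- Flatness of the closure of the generic fibre may be checked at the maximal ideals of the base. -/
theorem flat_of_localization {A R O L : Type u} [CommRing A] [CommRing R] [Algebra A R] [CommRing O] [Field L]
    [Algebra A O] [Algebra A L] [Algebra O L] [IsScalarTower A O L]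
    (hinj : Function.Injective (algebraMap O L))
    (h : ∀ (p : Ideal O) [p.IsMaximal] (Op : Type u) [CommRing Op] [IsLocalRing Op] [IsDomain Op] [Algebra A Op]
      [Algebra O Op] [Algebra Op L] [IsScalarTower A Op L] [IsScalarTower O Op L] [IsScalarTower A O Op],
      IsLocalization p.primeCompl Op → Function.Injective (algebraMap Op L) →
        Module.Flat Op ((Op ⊗[A] R) ⧸ RingHom.ker (bc (A₀ := A) (R := R) Op L))) :
    Module.Flat O ((O ⊗[A] R) ⧸ RingHom.ker (bc (A₀ := A) (R := R) O L)) := by
  haveI : IsDomain O := hinj.isDomain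
  let Op := fun (P : Ideal O) (_ : P.IsMaximal) => Localization.AtPrime P
  have hu : ∀ (P : Ideal O) [P.IsMaximal] (y : P.primeCompl), IsUnit (algebraMap O L y) := fun P _ y => by
    rw [isUnit_iff_ne_zero, Ne, map_eq_zero_iff _ hinj]
    exact fun h0 => y.2 (by rw [h0]; exact P.zero_mem)
  letI aL : ∀ (P : Ideal O) [P.IsMaximal], Algebra (Localization.AtPrime P) L := fun P _ =>
    (IsLocalization.lift (S := Localization.AtPrime P) (hu P)).toAlgebra
  haveI : ∀ (P : Ideal O) [P.IsMaximal], IsScalarTower O (Localization.AtPrime P) L := fun P _ =>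
    IsScalarTower.of_algebraMap_eq fun x => (IsLocalization.lift_eq (hu P) x).symm
  haveI : ∀ (P : Ideal O) [P.IsMaximal], IsScalarTower A (Localization.AtPrime P) L := fun P _ =>
    IsScalarTower.of_algebraMap_eq fun x => by
      rw [IsScalarTower.algebraMap_apply A O L, IsScalarTower.algebraMap_apply A O (Localization.AtPrime P),
        ← IsScalarTower.algebraMap_apply O (Localization.AtPrime P) L]
  have hinj' : ∀ (P : Ideal O) [P.IsMaximal], Function.Injective (algebraMap (Localization.AtPrime P) L) :=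
    fun P _ => (IsLocalization.lift_injective_iff (hu P)).mpr fun x y =>
      ⟨fun hxy => congrArg _ (IsLocalization.injective (Localization.AtPrime P)
        (P.primeCompl_le_nonZeroDivisors) hxy), fun hxy => congrArg _ (hinj hxy)⟩
  let Jp := fun (P : Ideal O) [P.IsMaximal] =>
    RingHom.ker (bc (A₀ := A) (R := R) (Localization.AtPrime P) L)
  let J := RingHom.ker (bc (A₀ := A) (R := R) O L)
  have hcomp : ∀ (P : Ideal O) [P.IsMaximal] (z : O ⊗[A] R),
      bc (A₀ := A) (R := R) (Localization.AtPrime P) L (bc (A₀ := A) (R := R) O (Localization.AtPrime P) z) =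
        bc (A₀ := A) (R := R) O L z := fun P _ z => by
    induction z using TensorProduct.induction_on with
    | zero => simp
    | tmul a r =>
      show algebraMap (Localization.AtPrime P) L (algebraMap O _ a) ⊗ₜ[A] r = algebraMap O L a ⊗ₜ[A] r
      rw [← IsScalarTower.algebraMap_apply]
    | add a b ha hb => simp only [map_add, ha, hb]
  let φ : ∀ (P : Ideal O) [P.IsMaximal],
      ((O ⊗[A] R) ⧸ J) →ₐ[O] ((Localization.AtPrime P ⊗[A] R) ⧸ Jp P) := fun P _ =>
    Ideal.Quotient.liftₐ J
      ((Ideal.Quotient.mkₐ O (Jp P)).comp (Algebra.TensorProduct.map (Algebra.ofId O (Localization.AtPrime P))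
        (AlgHom.id A R)))
      (fun z hz => Ideal.Quotient.eq_zero_iff_mem.mpr (show bc (A₀ := A) (R := R) (Localization.AtPrime P) L
        (bc (A₀ := A) (R := R) O (Localization.AtPrime P) z) = 0 by rw [hcomp]; exact hz))
  have hφ : ∀ (P : Ideal O) [P.IsMaximal] (z : O ⊗[A] R), φ P (Ideal.Quotient.mk J z) =
      Ideal.Quotient.mk (Jp P) (bc (A₀ := A) (R := R) O (Localization.AtPrime P) z) := fun P _ z => rfl
  have hlocmod : ∀ (P : Ideal O) [P.IsMaximal], IsLocalizedModule.AtPrime P (φ P).toLinearMap := fun P _ => by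
    refine ⟨fun s => ?_, fun y => ?_, fun {x₁ x₂} hx => ⟨1, ?_⟩⟩
    · rw [Module.End.isUnit_iff]
      have hs : IsUnit (algebraMap O ((Localization.AtPrime P ⊗[A] R) ⧸ Jp P) s) := by
        rw [IsScalarTower.algebraMap_apply O (Localization.AtPrime P)]
        exact (IsLocalization.map_units (Localization.AtPrime P) s).map _
      obtain ⟨u, hu'⟩ := hs
      refine Function.bijective_iff_has_inverse.mpr ⟨fun y => (↑u⁻¹ : _) * y, fun y => ?_, fun y => ?_⟩
      · show ↑u⁻¹ * ((s : O) • y) = y
        rw [Algebra.smul_def, ← hu', ← mul_assoc, Units.inv_mul, one_mul]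
      · show (s : O) • (↑u⁻¹ * y) = y
        rw [Algebra.smul_def, ← hu', ← mul_assoc, Units.mul_inv, one_mul]
    · obtain ⟨y, rfl⟩ := Ideal.Quotient.mk_surjective y
      have key : ∀ w : Localization.AtPrime P ⊗[A] R, ∃ (s : P.primeCompl) (z : O ⊗[A] R),
          (s : O) • w = bc (A₀ := A) (R := R) O (Localization.AtPrime P) z := fun w => by
        induction w using TensorProduct.induction_on with
        | zero => exact ⟨1, 0, by simp⟩
        | tmul a r =>
          obtain ⟨⟨o, s⟩, ho⟩ := IsLocalization.surj P.primeCompl a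
          refine ⟨s, o ⊗ₜ r, ?_⟩
          show ((s : O) • (a ⊗ₜ[A] r)) = algebraMap O _ o ⊗ₜ[A] r
          rw [smul_tmul', Algebra.smul_def, mul_comm, ho]
        | add w₁ w₂ h₁ h₂ =>
          obtain ⟨s₁, z₁, e₁⟩ := h₁
          obtain ⟨s₂, z₂, e₂⟩ := h₂
          refine ⟨s₁ * s₂, (s₂ : O) • z₁ + (s₁ : O) • z₂, ?_⟩
          have hb : ∀ (c : O) (z : O ⊗[A] R), bc (A₀ := A) (R := R) O (Localization.AtPrime P) (c • z) =
              c • bc (A₀ := A) (R := R) O (Localization.AtPrime P) z := fun c z =>
            map_smul (Algebra.TensorProduct.map (Algebra.ofId O (Localization.AtPrime P)) (AlgHom.id A R)) c z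
          rw [map_add, hb, hb, ← e₁, ← e₂, Submonoid.coe_mul, smul_add, smul_smul, smul_smul, mul_comm (s₂ : O)]
      obtain ⟨s, z, hz⟩ := key y
      exact ⟨(Ideal.Quotient.mk J z, s), congrArg (Ideal.Quotient.mk (Jp P)) hz⟩
    · obtain ⟨x₁, rfl⟩ := Ideal.Quotient.mk_surjective x₁
      obtain ⟨x₂, rfl⟩ := Ideal.Quotient.mk_surjective x₂
      refine congrArg _ (Ideal.Quotient.eq.mpr (RingHom.mem_ker.mpr ?_))
      have h2 := Ideal.Quotient.eq.mp hx
      rw [← map_sub, RingHom.mem_ker] at h2
      exact (hcomp P _).symm.trans h2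
  refine @Module.flat_of_isLocalized_maximal O O _ _ _ ((O ⊗[A] R) ⧸ J) _ _ _ _
    (fun P _ => (Localization.AtPrime P ⊗[A] R) ⧸ Jp P) _ _ _ _ (fun P _ => (φ P).toLinearMap) ?_ fun P _ => ?_
  · intro P hP
    exact hlocmod P
  haveI := h P (Localization.AtPrime P) inferInstance (hinj' P)
  haveI : Module.Flat O (Localization.AtPrime P) := IsLocalization.flat _ P.primeCompl
  exact Module.Flat.trans O (Localization.AtPrime P) _

/-- An ideal of a domain whose invertibility in a local domain flattens the closure of the generic fibres of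
finitely many finitely presented algebras. -/
theorem exists_flattening_ideal (A : Type u) [CommRing A] [IsDomain A] {κ : Type u} [Finite κ] (R : κ → Type u)
    [∀ k, CommRing (R k)] [∀ k, Algebra A (R k)] [∀ k, Algebra.FinitePresentation A (R k)] :
    ∃ I : Ideal A, I.FG ∧ I ≠ ⊥ ∧ ∀ (O L : Type u) [CommRing O] [IsDomain O] [IsLocalRing O] [Field L]
      [Algebra A O] [Algebra A L] [Algebra O L] [IsScalarTower A O L], Function.Injective (algebraMap A L) →
        Function.Injective (algebraMap O L) → (∃ g : O, g ≠ 0 ∧ I.map (algebraMap A O) = Ideal.span {g}) →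
          ∀ k, Module.Flat O ((O ⊗[A] R k) ⧸ RingHom.ker (bc (A₀ := A) (R := R k) O L)) := by
  classical
  let K := FractionRing A
  -- one finite set flattening all the algebras at once, for each valuation
  let P : Finset K → Prop := fun F => ∀ k, ∀ (O L : Type u) [CommRing O] [Field L] [Algebra A O] [Algebra A L]
      [Algebra O L] [IsScalarTower A O L] (σ : K →ₐ[A] L), Function.Injective (algebraMap O L) →
        (∀ x ∈ F, σ x ∈ Set.range (algebraMap O L)) →
          Module.Flat O ((O ⊗[A] R k) ⧸ RingHom.ker (bc (A₀ := A) (R := R k) O L))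
  obtain ⟨Fs, hP, hcov⟩ := exists_finite_valSubring_cover (A := A) (K := K) P fun V hV => by
    haveI := Fintype.ofFinite κ
    choose F hF hFflat using fun k => exists_flat_finset (R k) V hV
    exact ⟨Finset.univ.biUnion F, fun k O L _ _ _ _ _ _ σ hinj hr =>
        hFflat k O L σ hinj fun x hx => hr x (Finset.mem_biUnion.mpr ⟨k, Finset.mem_univ k, hx⟩),
      fun x hx => by
        obtain ⟨k, -, hk⟩ := Finset.mem_biUnion.mp hx
        exact hF k x hk⟩
  choose b hb using fun F : Finset K => IsLocalization.exist_integer_multiples_of_finset (nonZeroDivisors A) F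
  choose a ha using hb
  let gens : Finset K → Finset A := fun F => insert (b F : A) (F.attach.image fun x => a F x.1 x.2)
  let fct : Finset K → Ideal A := fun F => Ideal.span (gens F : Set A)
  refine ⟨∏ F ∈ Fs, fct F,
    Finset.prod_induction fct (fun I => I.FG) (fun _ _ h₁ h₂ => h₁.mul h₂) ⟨{1}, by simp⟩ (fun F _ => ⟨gens F, rfl⟩), ?_, fun O L _ _ _ _ _ _ _ _ hAL hOL hg => ?_⟩
  · rw [Ne, ← Ideal.zero_eq_bot, Finset.prod_eq_zero_iff, not_exists]
    rintro F ⟨-, h0⟩
    exact nonZeroDivisors.ne_zero (b F).2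
      ((Ideal.span_eq_bot.mp h0) _ (Finset.mem_coe.mpr (Finset.mem_insert_self _ _)))
  let σ : K →ₐ[A] L := IsFractionRing.liftAlgHom (g := Algebra.ofId A L) hAL
  -- a valuation ring of `L` dominating `O`
  obtain ⟨V, hV, hloc⟩ := IsLocalRing.exists_factor_valuationRing (algebraMap O L)
  let V' : ValuationSubring K := V.comap σ.toRingHom
  obtain ⟨F, hFs, hFV⟩ := hcov V' fun x => by
    show σ (algebraMap A K x) ∈ V
    rw [AlgHom.commutes, IsScalarTower.algebraMap_apply A O L]
    exact hV _
  obtain ⟨g, hg0, hgI⟩ := hg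
  rw [← Finset.mul_prod_erase Fs fct hFs, Ideal.map_mul] at hgI
  have hs : Ideal.span (algebraMap A O '' (gens F : Set A)) = (fct F).map (algebraMap A O) :=
    (Ideal.map_span _ _).symm
  obtain ⟨i, ⟨y, hy, rfl⟩, hi0, hI⟩ := exists_generator_of_mul hg0 hgI hs
  have hmem : ∀ z ∈ gens F, ∃ w : O, w * algebraMap A O y = algebraMap A O z := fun z hz =>
    Ideal.mem_span_singleton'.mp (hI ▸ Ideal.mem_map_of_mem _ (Ideal.subset_span (Finset.mem_coe.mpr hz)))
  obtain ⟨w, hw⟩ := hmem _ (Finset.mem_insert_self _ _)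
  have hbσ : ∀ (x : K) (hx : x ∈ F), algebraMap A L (a F x hx) = algebraMap A L (b F : A) * σ x := fun x hx => by
    rw [← σ.commutes (a F x hx), ha F x hx, map_smul, Algebra.smul_def]
  have hwu : IsUnit w := by
    rcases Finset.mem_insert.mp (Finset.mem_coe.mp hy) with rfl | hy'
    · have : w = 1 := mul_right_cancel₀ hi0 (by rw [hw, one_mul])
      rw [this]
      exact isUnit_one
    · obtain ⟨⟨x, hx⟩, -, rfl⟩ := Finset.mem_image.mp hy'
      have h1 : algebraMap O L w * σ x = 1 := by
        have h2 := congrArg (algebraMap O L) hw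
        rw [map_mul, ← IsScalarTower.algebraMap_apply, ← IsScalarTower.algebraMap_apply, hbσ x hx] at h2
        have hb0 : algebraMap A L (b F : A) ≠ 0 := fun h0 =>
          nonZeroDivisors.ne_zero (b F).2 (hAL (h0.trans (map_zero _).symm))
        refine mul_right_cancel₀ hb0 ?_
        rw [one_mul]
        rw [mul_comm (algebraMap A L _) (σ x), ← mul_assoc] at h2
        exact h2
      exact hloc.map_nonunit w (IsUnit.of_mul_eq_one (⟨σ x, hFV x hx⟩ : V) (Subtype.ext h1))
  refine fun k => hP F hFs k O L σ hOL fun x hx => ?_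
  obtain ⟨w', hw'⟩ := hmem (a F x hx)
    (Finset.mem_insert_of_mem (Finset.mem_image_of_mem _ (Finset.mem_attach _ ⟨x, hx⟩)))
  refine ⟨w' * ↑hwu.unit⁻¹, ?_⟩
  have hb0 : algebraMap A L (b F : A) ≠ 0 := fun h0 =>
    nonZeroDivisors.ne_zero (b F).2 (hAL (h0.trans (map_zero _).symm))
  refine mul_right_cancel₀ hb0 ?_
  rw [mul_comm (σ x), ← hbσ x hx, IsScalarTower.algebraMap_apply A O L, IsScalarTower.algebraMap_apply A O L,
    ← map_mul, ← hw, ← hw']
  congr 1
  rw [mul_assoc w', ← mul_assoc (↑hwu.unit⁻¹ : O), IsUnit.val_inv_mul, one_mul]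

end FlatModifLib
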