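import Mathlib
import Groth.Agent.FlatModifLib.Ideal
import Groth.Agent.BlowUpLib.Props
import Groth.Agent.AlgSpRegLib.ImageScheme
import Groth.Agent.FComplLib.Spf
import Groth.Agent.BlowUpLib.RegSmooth

/-!
# Affine pieces of the closure of a generic fibre
-/

set_option autoImplicit false

universe u

open CategoryTheory CategoryTheory.Limits AlgebraicGeometry TensorProduct RzLib.UnivOpen BlowUpLib

noncomputable section

namespace FlatModifLib

/-- An effective Cartier ideal on a local scheme is principal, generated by a nonzerodivisor. -/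
theorem exists_generator_of_isEffCartier {O : Type u} [CommRing O] [IsLocalRing O] {J : Ideal O}
    (h : BlowUp.IsEffCartierIdeal (specIdeal J)) : ∃ g ∈ nonZeroDivisors O, J = Ideal.span {g} := by
  obtain ⟨⟨U, hUa⟩, hU, t, ht, hJ⟩ := h (IsLocalRing.closedPoint O)
  obtain rfl : U = ⊤ := (IsLocalRing.closedPoint_mem_iff (R := O) U).mp hU
  let e := (Scheme.ΓSpecIso (CommRingCat.of O)).inv.hom
  have he : Function.Bijective e := ConcreteCategory.bijective_of_isIso _
  obtain ⟨g, hg⟩ := he.2 t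
  refine ⟨g, ?_, ?_⟩
  · refine mem_nonZeroDivisors_iff_right.mpr fun x hx => he.1 ?_
    rw [map_zero]
    refine mem_nonZeroDivisors_iff_right.mp ht _ ?_
    rw [← hg]
    exact (map_mul e x g).symm.trans ((congrArg e hx).trans (map_zero e))
  · have h1 : J.map e = Ideal.span {t} := (specIdeal_top J).symm.trans hJ
    have h2 := congrArg (Ideal.comap e) h1
    rw [← hg, ← Set.image_singleton, ← Ideal.map_span, Ideal.comap_map_of_bijective _ he,
      Ideal.comap_map_of_bijective _ he] at h2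
    exact h2

/-- The square of generic fibre pieces. -/
theorem isPullback_generic (A R O L : Type u) [CommRing A] [CommRing R] [CommRing O] [CommRing L]
    [Algebra A R] [Algebra A O] [Algebra A L] [Algebra O L] [IsScalarTower A O L] :
    IsPullback (Spec.map (CommRingCat.ofHom (algebraMap L (L ⊗[A] R))))
      (Spec.map (CommRingCat.ofHom (bc (A₀ := A) (R := R) O L).toRingHom))
      (Spec.map (CommRingCat.ofHom (algebraMap O L))) (Spec.map (CommRingCat.ofHom (algebraMap O (O ⊗[A] R)))) := by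
  have h1 := AlgebraicGeometry.isPullback_SpecMap_of_isPushout _ _ _ _ (CommRingCat.isPushout_tensorProduct A L R)
  have h2 := AlgebraicGeometry.isPullback_SpecMap_of_isPushout _ _ _ _ (CommRingCat.isPushout_tensorProduct A O R)
  refine (IsPullback.of_right (v₁₁ := Spec.map (CommRingCat.ofHom (algebraMap L (L ⊗[A] R))))
    (v₁₂ := Spec.map (CommRingCat.ofHom (algebraMap O (O ⊗[A] R)))) ?_ ?_ h2.flip).flip
  · rw [← Spec.map_comp, ← Spec.map_comp, ← CommRingCat.ofHom_comp, ← CommRingCat.ofHom_comp,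
      ← IsScalarTower.algebraMap_eq A O L]
    have e : (bc (A₀ := A) (R := R) O L).toRingHom.comp
        (Algebra.TensorProduct.includeRight : R →ₐ[A] O ⊗[A] R).toRingHom =
          (Algebra.TensorProduct.includeRight : R →ₐ[A] L ⊗[A] R).toRingHom :=
      RingHom.ext fun r => show algebraMap O L 1 ⊗ₜ[A] r = (1 : L) ⊗ₜ[A] r by rw [map_one]
    rw [e]
    exact h1.flip
  · rw [← Spec.map_comp, ← Spec.map_comp, ← CommRingCat.ofHom_comp, ← CommRingCat.ofHom_comp]
    congr 2

variable {X Y Y' : Scheme.{u}} (f : X ⟶ Y) (b : Y' ⟶ Y) [IsIntegral Y']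

/-- The generic point of `Y'` as a morphism. -/
abbrev genPt : Spec Y'.functionField ⟶ Y' := Y'.fromSpecStalk (genericPoint Y')

/-- The map of the generic fibre of the base change of `f` into the base change. -/
abbrev genIncl : pullback (pullback.snd f b) (genPt (Y' := Y')) ⟶ pullback f b :=
  pullback.fst _ _

/-- An affine piece of the base change, with the trace of the closure of the generic fibre. -/
theorem exists_piece [QuasiCompact (genPt (Y' := Y'))] {U : X.Opens} (hU : IsAffineOpen U) {W : Y.Opens}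
    (hW : IsAffineOpen W) {V : Y'.Opens} (hV : IsAffineOpen V) (eU : U ≤ f ⁻¹ᵁ W) (eV : V ≤ b ⁻¹ᵁ W)
    [Nonempty V] :
    letI : Algebra Γ(Y, W) Γ(X, U) := (f.appLE W U eU).hom.toAlgebra
    letI : Algebra Γ(Y, W) Γ(Y', V) := (b.appLE W V eV).hom.toAlgebra
    letI : Algebra Γ(Y, W) Y'.functionField :=
      ((algebraMap Γ(Y', V) Y'.functionField).comp (b.appLE W V eV).hom).toAlgebra
    haveI : IsScalarTower Γ(Y, W) Γ(Y', V) Y'.functionField := IsScalarTower.of_algebraMap_eq fun _ => rfl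
    ∃ j : Spec (CommRingCat.of (Γ(Y', V) ⊗[Γ(Y, W)] Γ(X, U))) ⟶ pullback f b, IsOpenImmersion j ∧
      (∀ x, pullback.fst f b x ∈ U → pullback.snd f b x ∈ V → x ∈ Set.range j) ∧
      j ≫ pullback.snd f b =
        Spec.map (CommRingCat.ofHom (algebraMap Γ(Y', V) (Γ(Y', V) ⊗[Γ(Y, W)] Γ(X, U)))) ≫ hV.fromSpec ∧
      (genIncl f b).ker.comap j =
        specIdeal (RingHom.ker (bc (A₀ := Γ(Y, W)) (R := Γ(X, U)) Γ(Y', V) Y'.functionField)) := by
  letI : Algebra Γ(Y, W) Γ(X, U) := (f.appLE W U eU).hom.toAlgebra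
  letI : Algebra Γ(Y, W) Γ(Y', V) := (b.appLE W V eV).hom.toAlgebra
  letI : Algebra Γ(Y, W) Y'.functionField :=
    ((algebraMap Γ(Y', V) Y'.functionField).comp (b.appLE W V eV).hom).toAlgebra
  haveI : IsScalarTower Γ(Y, W) Γ(Y', V) Y'.functionField := IsScalarTower.of_algebraMap_eq fun _ => rfl
  let j₀ := pullback.map (Spec.map (f.appLE W U eU)) (Spec.map (b.appLE W V eV)) f b hU.fromSpec hV.fromSpec
    hW.fromSpec (IsAffineOpen.SpecMap_appLE_fromSpec f hW hU eU) (IsAffineOpen.SpecMap_appLE_fromSpec b hW hV eV)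
  let j : Spec (CommRingCat.of (Γ(Y', V) ⊗[Γ(Y, W)] Γ(X, U))) ⟶ pullback f b :=
    ((pullbackSpecIso Γ(Y, W) Γ(Y', V) Γ(X, U)).inv ≫ (pullbackSymmetry _ _).hom) ≫ j₀
  haveI : IsOpenImmersion j₀ := inferInstance
  haveI : IsOpenImmersion j := inferInstance
  have hj : j ≫ pullback.snd f b =
      Spec.map (CommRingCat.ofHom (algebraMap Γ(Y', V) (Γ(Y', V) ⊗[Γ(Y, W)] Γ(X, U)))) ≫ hV.fromSpec := by
    simp only [j, j₀, Category.assoc]
    rw [show pullback.map (Spec.map (f.appLE W U eU)) (Spec.map (b.appLE W V eV)) f b hU.fromSpec hV.fromSpec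
      hW.fromSpec (IsAffineOpen.SpecMap_appLE_fromSpec f hW hU eU) (IsAffineOpen.SpecMap_appLE_fromSpec b hW hV eV) ≫
        pullback.snd f b = pullback.snd _ _ ≫ hV.fromSpec from pullback.lift_snd _ _ _]
    erw [pullbackSymmetry_hom_comp_snd_assoc]
    exact pullbackSpecIso_inv_fst_assoc _ _ _ _
  refine ⟨j, inferInstance, fun x hx1 hx2 => ?_, hj, ?_⟩
  · have hr : Set.range j = Set.range j₀ := by
      show Set.range (((pullbackSpecIso Γ(Y, W) Γ(Y', V) Γ(X, U)).inv ≫ (pullbackSymmetry _ _).hom) ≫ j₀) = _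
      rw [Scheme.Hom.comp_base, TopCat.coe_comp, Set.range_comp,
        Set.range_eq_univ.mpr (Scheme.Hom.surjective _), Set.image_univ]
    rw [hr, Scheme.Pullback.range_map]
    exact ⟨by rw [Set.mem_preimage, hU.range_fromSpec]; exact hx1,
      by rw [Set.mem_preimage, hV.range_fromSpec]; exact hx2⟩
  have hη : Spec.map (CommRingCat.ofHom (algebraMap Γ(Y', V) Y'.functionField)) ≫ hV.fromSpec =
      genPt (Y' := Y') :=
    hV.fromSpecStalk_eq_fromSpecStalk _
  have hmono : IsPullback (𝟙 (Spec Γ(Y', V))) (𝟙 (Spec Γ(Y', V))) hV.fromSpec hV.fromSpec :=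
    IsPullback.of_isLimit' ⟨rfl⟩ (PullbackCone.isLimitMkIdId hV.fromSpec)
  have h1 := isPullback_generic Γ(Y, W) Γ(X, U) Γ(Y', V) Y'.functionField
  have h2 : IsPullback (Spec.map (CommRingCat.ofHom (algebraMap Y'.functionField (Y'.functionField ⊗[Γ(Y, W)] Γ(X, U)))))
      (Spec.map (CommRingCat.ofHom (bc (A₀ := Γ(Y, W)) (R := Γ(X, U)) Γ(Y', V) Y'.functionField).toRingHom))
      (genPt (Y' := Y')) (j ≫ pullback.snd f b) := by
    rw [hj, ← hη]
    have h3 : IsPullback (Spec.map (CommRingCat.ofHom (algebraMap Γ(Y', V) (Γ(Y', V) ⊗[Γ(Y, W)] Γ(X, U)))))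
        (𝟙 _) hV.fromSpec (Spec.map (CommRingCat.ofHom (algebraMap Γ(Y', V) (Γ(Y', V) ⊗[Γ(Y, W)] Γ(X, U)))) ≫ hV.fromSpec) := by
      have h4 : IsPullback (Spec.map (CommRingCat.ofHom (algebraMap Γ(Y', V) (Γ(Y', V) ⊗[Γ(Y, W)] Γ(X, U)))))
          (𝟙 _) (𝟙 _) (Spec.map (CommRingCat.ofHom (algebraMap Γ(Y', V) (Γ(Y', V) ⊗[Γ(Y, W)] Γ(X, U))))) :=
        IsPullback.of_vert_isIso ⟨by simp⟩
      have h5 := h4.paste_horiz hmono
      erw [Category.comp_id] at h5
      exact h5
    simpa using h1.paste_vert h3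
  let h := pullback.lift (Spec.map (CommRingCat.ofHom
      (bc (A₀ := Γ(Y, W)) (R := Γ(X, U)) Γ(Y', V) Y'.functionField).toRingHom) ≫ j)
    (Spec.map (CommRingCat.ofHom (algebraMap Y'.functionField (Y'.functionField ⊗[Γ(Y, W)] Γ(X, U)))))
    ((Category.assoc _ _ _).trans h2.w.symm)
  have sq : IsPullback h (Spec.map (CommRingCat.ofHom
      (bc (A₀ := Γ(Y, W)) (R := Γ(X, U)) Γ(Y', V) Y'.functionField).toRingHom)) (genIncl f b) j := by
    refine IsPullback.of_right ?_ (pullback.lift_fst _ _ _) (IsPullback.of_hasPullback _ _).flip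
    rw [show h ≫ pullback.snd _ _ = _ from pullback.lift_snd _ _ _]
    exact h2
  rw [← AlgSpRegLib.ker_eq_comap_of_isPullback sq, FComplLib.ker_specMap]
  rfl

/-- The closure of the generic fibre is flat at an affine piece if the corresponding algebra is. -/
theorem flat_piece {P T : Scheme.{u}} {O S : Type u} [CommRing O] [CommRing S] [Algebra O S]
    (s : P ⟶ T) (𝒦 : P.IdealSheafData) (j : Spec (CommRingCat.of S) ⟶ P) (v : Spec (CommRingCat.of O) ⟶ T)
    [IsOpenImmersion j] [Flat v]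
    (hj : j ≫ s = Spec.map (CommRingCat.ofHom (algebraMap O S)) ≫ v) (J : Ideal S)
    (hJ : 𝒦.comap j = specIdeal J) [Module.Flat O (S ⧸ J)] :
    Flat (pullback.fst 𝒦.subschemeι j ≫ 𝒦.subschemeι ≫ s) := by
  let q := Spec.map (CommRingCat.ofHom (Ideal.Quotient.mk J))
  haveI : IsClosedImmersion q := IsClosedImmersion.spec_of_surjective _ Ideal.Quotient.mk_surjective
  have hk : q.ker = (pullback.fst j 𝒦.subschemeι).ker := by
    rw [Scheme.IdealSheafData.ker_fst_of_isClosedImmersion, Scheme.IdealSheafData.ker_subschemeι, hJ,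
      ker_SpecMap_mk]
  let m := IsClosedImmersion.lift q (pullback.fst j 𝒦.subschemeι) hk.le
  haveI : IsIso m := IsClosedImmersion.isIso_lift q (pullback.fst j 𝒦.subschemeι) hk
  have hm : m ≫ q = pullback.fst j 𝒦.subschemeι := IsClosedImmersion.lift_fac _ _ _
  have e : pullback.fst 𝒦.subschemeι j ≫ 𝒦.subschemeι ≫ s =
      ((pullbackSymmetry _ _).hom ≫ m) ≫ Spec.map (CommRingCat.ofHom (algebraMap O (S ⧸ J))) ≫ v := by
    rw [pullback.condition_assoc, hj, Category.assoc]
    have e2 : Spec.map (CommRingCat.ofHom (algebraMap O (S ⧸ J))) =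
        q ≫ Spec.map (CommRingCat.ofHom (algebraMap O S)) := by
      rw [← Spec.map_comp, ← CommRingCat.ofHom_comp]
    rw [e2, Category.assoc, reassoc_of% hm]
    try rw [pullbackSymmetry_hom_comp_fst_assoc]
  rw [e]
  haveI : Flat (Spec.map (CommRingCat.ofHom (algebraMap O (S ⧸ J)))) := by
    rw [HasRingHomProperty.Spec_iff (P := @Flat)]
    exact RingHom.flat_algebraMap_iff.mpr ‹_›
  infer_instance

end FlatModifLib
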