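import Mathlib
import Groth.Agent.FlatModifLib.Piece
import Groth.Agent.BlowUpLib.Exists
import Groth.Agent.BlowUpLib.Strict
import Groth.Agent.ConsLib.Basic

/-!
# Flattening the closure of the generic fibre by a modification of an integral base
-/

set_option autoImplicit false

universe u

open CategoryTheory CategoryTheory.Limits AlgebraicGeometry TensorProduct RzLib.UnivOpen BlowUpLib

noncomputable section

namespace FlatModifLib

theorem comap_imageOfClosed {Y : Scheme.{u}} [IsNoetherian Y] {W : Y.Opens} (hW : IsAffineOpen W)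
    (I : Ideal Γ(Y, W)) :
    (Spec.map (CommRingCat.ofHom (Ideal.Quotient.mk I)) ≫ hW.fromSpec).ker.comap hW.fromSpec = specIdeal I := by
  let q := Spec.map (CommRingCat.ofHom (Ideal.Quotient.mk I))
  have sq : IsPullback (𝟙 (Spec (CommRingCat.of (Γ(Y, W) ⧸ I)))) q (q ≫ hW.fromSpec) hW.fromSpec := by
    have hmono : IsPullback (𝟙 (Spec Γ(Y, W))) (𝟙 (Spec Γ(Y, W))) hW.fromSpec hW.fromSpec :=
      IsPullback.of_isLimit' ⟨rfl⟩ (PullbackCone.isLimitMkIdId hW.fromSpec)
    have h4 : IsPullback q (𝟙 _) (𝟙 _) q := IsPullback.of_vert_isIso ⟨by simp⟩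
    have h5 := h4.paste_horiz hmono
    erw [Category.comp_id] at h5
    exact h5.flip
  haveI : QuasiCompact (q ≫ hW.fromSpec) := (quasiCompact_iff_compactSpace _).mpr inferInstance
  rw [← AlgSpRegLib.ker_eq_comap_of_isPullback sq]
  exact ker_SpecMap_mk I

theorem support_finsetProd {Y : Scheme.{u}} {ι : Type*} (s : Finset ι) (𝓘 : ι → Y.IdealSheafData) (x : Y)
    (h : ∀ i ∈ s, x ∉ (𝓘 i).support) : x ∉ (∏ i ∈ s, 𝓘 i).support := by
  classical
  induction s using Finset.induction with
  | empty =>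
    simp only [Finset.prod_empty, Scheme.IdealSheafData.one_eq_top, Scheme.IdealSheafData.support_top]
    exact fun h => h
  | insert a s ha ih =>
    rw [Finset.prod_insert ha, Scheme.IdealSheafData.support_mul]
    rintro (hx | hx)
    · exact h a (Finset.mem_insert_self _ _) hx
    · exact ih (fun i hi => h i (Finset.mem_insert_of_mem hi)) hx

theorem isEffCartier_factor {Y Z : Scheme.{u}} (b : Z ⟶ Y) {ι : Type*} (s : Finset ι) (𝓘 : ι → Y.IdealSheafData)
    (h : BlowUp.IsEffCartierIdeal ((∏ i ∈ s, 𝓘 i).comap b)) (i : ι) (hi : i ∈ s) :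
    BlowUp.IsEffCartierIdeal ((𝓘 i).comap b) := by
  classical
  rw [← Finset.prod_erase_mul s 𝓘 hi, BlowUpLib.comap_mul] at h
  exact isEffCartier_of_mul h

/-- After a proper birational base change the closure of the generic fibre of a universally open morphism of
finite type over a Noetherian integral scheme is flat and contains all points. -/
theorem exists_flat_modification {X Y : Scheme.{u}} [IsIntegral Y] [IsNoetherian Y] (f : X ⟶ Y)
    [LocallyOfFiniteType f] [QuasiCompact f] [UniversallyOpen f] :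
    ∃ (Y' : Scheme.{u}) (q : Y' ⟶ Y) (X' : Scheme.{u}) (r : X' ⟶ pullback f q), IsProper q ∧ Surjective q ∧
      LocallyOfFinitePresentation q ∧ IsClosedImmersion r ∧ Surjective r ∧ Flat (r ≫ pullback.snd f q) ∧
      LocallyOfFinitePresentation (r ≫ pullback.snd f q) := by
  classical
  -- affine covers
  choose W hW hyW _hle using fun y : Y => exists_isAffineOpen_mem_and_subset (x := y) (U := ⊤) trivial
  obtain ⟨t, ht⟩ := CompactSpace.elim_nhds_subcover (fun y => (W y : Set Y)) (fun y => (W y).2.mem_nhds (hyW y))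
  have hUex : ∀ (y : Y) (x : (f ⁻¹ᵁ W y : X.Opens)), ∃ U : X.Opens, IsAffineOpen U ∧ x.1 ∈ U ∧ U ≤ f ⁻¹ᵁ W y :=
    fun y x => exists_isAffineOpen_mem_and_subset (x := x.1) (U := f ⁻¹ᵁ W y) x.2
  choose U hU hxU hUle using hUex
  choose κ hκ using fun y : Y => (f.isCompact_preimage (hW y).isCompact).elim_finite_subcover
    (fun x : (f ⁻¹ᵁ W y : X.Opens) => (U y x : Set X)) (fun x => (U y x).2)
    (fun x hx => Set.mem_iUnion.mpr ⟨⟨x, hx⟩, hxU y ⟨x, hx⟩⟩)
  haveI hne : ∀ y, Nonempty (W y) := fun y => ⟨⟨y, hyW y⟩⟩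
  have hIex : ∀ y, ∃ I : Ideal Γ(Y, W y), I.FG ∧ I ≠ ⊥ ∧
      ∀ (O L : Type u) [CommRing O] [IsDomain O] [IsLocalRing O] [Field L] [Algebra Γ(Y, W y) O]
      [Algebra Γ(Y, W y) L] [Algebra O L] [IsScalarTower Γ(Y, W y) O L],
        Function.Injective (algebraMap Γ(Y, W y) L) → Function.Injective (algebraMap O L) →
        (∃ g : O, g ≠ 0 ∧ I.map (algebraMap Γ(Y, W y) O) = Ideal.span {g}) → ∀ k : (κ y : Set _),
          letI : Algebra Γ(Y, W y) Γ(X, U y k.1) := (f.appLE (W y) (U y k.1) (hUle y k.1)).hom.toAlgebra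
          Module.Flat O ((O ⊗[Γ(Y, W y)] Γ(X, U y k.1)) ⧸
            RingHom.ker (bc (A₀ := Γ(Y, W y)) (R := Γ(X, U y k.1)) O L)) := fun y => by
    letI : ∀ k : (κ y : Set _), Algebra Γ(Y, W y) Γ(X, U y k.1) := fun k =>
      (f.appLE (W y) (U y k.1) (hUle y k.1)).hom.toAlgebra
    haveI : IsNoetherianRing Γ(Y, W y) := IsLocallyNoetherian.component_noetherian ⟨W y, hW y⟩
    haveI : ∀ k : (κ y : Set _), Algebra.FinitePresentation Γ(Y, W y) Γ(X, U y k.1) := fun k =>
      Algebra.FinitePresentation.of_finiteType.mp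
        (HasRingHomProperty.appLE @LocallyOfFiniteType f ‹_› ⟨_, hW y⟩ ⟨_, hU y k.1⟩ (hUle y k.1))
    exact exists_flattening_ideal Γ(Y, W y) fun k : (κ y : Set _) => (Γ(X, U y k.1) : Type u)
  choose I hIfg hI0 hI using hIex
  -- the blow-up
  let 𝓘 : Y → Y.IdealSheafData := fun y =>
    (Spec.map (CommRingCat.ofHom (Ideal.Quotient.mk (I y))) ≫ (hW y).fromSpec).ker
  have hη : ∀ y, genericPoint Y ∉ (𝓘 y).support := by
    intro y hmem
    haveI : QuasiCompact (Spec.map (CommRingCat.ofHom (Ideal.Quotient.mk (I y))) ≫ (hW y).fromSpec) :=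
      (quasiCompact_iff_compactSpace _).mpr inferInstance
    have hgW : genericPoint Y ∈ W y := ((genericPoint_spec Y).mem_open_set_iff (W y).2).mpr ⟨y, trivial, hyW y⟩
    obtain ⟨p, hp⟩ := (hW y).range_fromSpec.ge hgW
    have h2 : p ∈ ((𝓘 y).comap (hW y).fromSpec).support := by
      rw [Scheme.IdealSheafData.support_comap]
      show (hW y).fromSpec p ∈ (𝓘 y).support
      rw [hp]
      exact hmem
    rw [comap_imageOfClosed (hW y) (I y), ← ker_SpecMap_mk, ← SetLike.mem_coe, Scheme.Hom.support_ker] at h2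
    haveI : IsClosedImmersion (Spec.map (CommRingCat.ofHom (Ideal.Quotient.mk (I y)))) :=
      IsClosedImmersion.spec_of_surjective _ Ideal.Quotient.mk_surjective
    rw [(Spec.map (CommRingCat.ofHom (Ideal.Quotient.mk (I y)))).isClosedEmbedding.isClosed_range.closure_eq] at h2
    obtain ⟨z, hz⟩ := h2
    have hgen : p = (⊥ : PrimeSpectrum Γ(Y, W y)) := by
      refine ((hW y).fromSpec.isOpenEmbedding.injective ?_).trans
        (genericPoint_eq_bot_of_affine Γ(Y, W y))
      rw [hp, genericPoint_eq_of_isOpenImmersion]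
    obtain ⟨a, ha, ha0⟩ := Submodule.exists_mem_ne_zero_of_ne_bot (hI0 y)
    have hpa : a ∈ p.asIdeal := by
      rw [← hz]
      show Ideal.Quotient.mk (I y) a ∈ z.asIdeal
      rw [Ideal.Quotient.eq_zero_iff_mem.mpr ha]
      exact z.asIdeal.zero_mem
    rw [hgen] at hpa
    exact ha0 hpa
  let 𝒥 := ∏ y ∈ t, 𝓘 y
  have hJη : genericPoint Y ∉ 𝒥.support := support_finsetProd t 𝓘 _ fun y _ => hη y
  have hJ0 : 𝒥 ≠ ⊥ := fun h => hJη (by rw [h, Scheme.IdealSheafData.support_bot]; trivial)
  obtain ⟨Y', b, hb⟩ := BlowUpLib.exists_isBlowUp Y 𝒥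
  obtain ⟨hY'int, hgenb, -⟩ := isIntegral_of_isBlowUp hb hJ0
  haveI := hY'int
  haveI hbprop : IsProper b := isProper_of_isBlowUp hb fun V =>
    haveI : IsNoetherianRing Γ(Y, V.1) := IsLocallyNoetherian.component_noetherian V
    IsNoetherian.noetherian _
  haveI : IsNoetherian Y' := ConsLib.isNoetherian_of_ft b
  haveI : LocallyOfFinitePresentation b := inferInstance
  haveI : Surjective b := ⟨fun y => by
    have hcl : IsClosed (Set.range b) := b.isClosedMap.isClosed_range
    exact (((genericPoint_spec Y).specializes (Set.mem_univ y)).mem_closed hcl ⟨_, hgenb⟩)⟩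
  haveI : QuasiCompact (genPt (Y' := Y')) := (quasiCompact_iff_compactSpace _).mpr inferInstance
  let g := genIncl f b
  let r : g.image ⟶ pullback f b := g.imageι
  have hr : Surjective r := by
    refine ⟨fun x => ?_⟩
    have hrange : Set.range r = (pullback.snd f b) ⁻¹' closure {genericPoint Y'} := by
      rw [show Set.range r = closure (Set.range g) from
        (Scheme.IdealSheafData.range_subschemeι _).trans (Scheme.Hom.support_ker g)]
      rw [(pullback.snd f b).isOpenMap.preimage_closure_eq_closure_preimage (pullback.snd f b).continuous]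
      congr 1
      rw [Scheme.Pullback.range_fst]
      congr 1
      rw [Scheme.range_fromSpecStalk]
      ext z
      exact ⟨fun h => (((genericPoint_spec Y').specializes (Set.mem_univ z)).antisymm h).eq.symm,
        fun h => by rw [Set.mem_singleton_iff.mp h]; exact specializes_rfl⟩
    show x ∈ Set.range r
    rw [hrange, genericPoint_closure]
    trivial
  refine ⟨Y', b, g.image, r, hbprop, inferInstance, inferInstance, inferInstance, hr, ?_, ?_⟩
  swap
  · haveI : LocallyOfFiniteType (r ≫ pullback.snd f b) := inferInstance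
    infer_instance
  -- flatness on affine pieces
  have key : ∀ x : ↥(g.image), ∃ (Z : Scheme.{u}) (j : Z ⟶ g.image), IsOpenImmersion j ∧ x ∈ Set.range j ∧
      Flat (j ≫ r ≫ pullback.snd f b) := by
    intro x
    let y' := pullback.snd f b (r x)
    obtain ⟨y, hyt, hy⟩ := Set.mem_iUnion₂.mp (ht.ge (Set.mem_univ (b y')))
    have hfx : pullback.fst f b (r x) ∈ f ⁻¹ᵁ W y := by
      show f (pullback.fst f b (r x)) ∈ W y
      rw [← Scheme.Hom.comp_apply, pullback.condition, Scheme.Hom.comp_apply]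
      exact hy
    obtain ⟨k, hkκ, hk⟩ := Set.mem_iUnion₂.mp (hκ y hfx)
    obtain ⟨V, hV, hyV, hVle⟩ := exists_isAffineOpen_mem_and_subset (x := y') (U := b ⁻¹ᵁ W y) hy
    haveI : Nonempty V := ⟨⟨y', hyV⟩⟩
    letI : Algebra Γ(Y, W y) Γ(X, U y k) := (f.appLE (W y) (U y k) (hUle y k)).hom.toAlgebra
    letI : Algebra Γ(Y, W y) Γ(Y', V) := (b.appLE (W y) V hVle).hom.toAlgebra
    letI : Algebra Γ(Y, W y) Y'.functionField :=
      ((algebraMap Γ(Y', V) Y'.functionField).comp (b.appLE (W y) V hVle).hom).toAlgebra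
    haveI : IsScalarTower Γ(Y, W y) Γ(Y', V) Y'.functionField := IsScalarTower.of_algebraMap_eq fun _ => rfl
    obtain ⟨j, hj, hjrange, hjs, hjker⟩ := exists_piece f b (hU y k) (hW y) hV (hUle y k) hVle
    haveI := hj
    have hinj : Function.Injective (algebraMap Γ(Y', V) Y'.functionField) :=
      Y'.germToFunctionField_injective V
    have hηV : genericPoint Y' ∈ V :=
      ((genericPoint_spec Y').mem_open_set_iff V.2).mpr ⟨y', trivial, hyV⟩
    have hinjA : Function.Injective (algebraMap Γ(Y, W y) Y'.functionField) := by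
      have hbη : b (genericPoint Y') ∈ W y := hVle hηV
      have e : (algebraMap Γ(Y, W y) Y'.functionField) =
          (Y.presheaf.germ (W y) (b (genericPoint Y')) hbη ≫ b.stalkMap (genericPoint Y')).hom := by
        rw [Scheme.Hom.germ_stalkMap]
        show ((b.appLE (W y) V hVle) ≫ Y'.germToFunctionField V).hom = _
        congr 1
        simp only [Scheme.Hom.appLE, Category.assoc, TopCat.Presheaf.germ_res]
      have hfield : IsField (Y.presheaf.stalk (b (genericPoint Y'))) := by
        rw [hgenb]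
        exact Field.toIsField Y.functionField
      letI := hfield.toField
      rw [e]
      exact ((b.stalkMap (genericPoint Y')).hom.injective).comp (germ_injective_of_isIntegral Y _ hbη)
    have hflat : Module.Flat Γ(Y', V) ((Γ(Y', V) ⊗[Γ(Y, W y)] Γ(X, U y k)) ⧸
        RingHom.ker (bc (A₀ := Γ(Y, W y)) (R := Γ(X, U y k)) Γ(Y', V) Y'.functionField)) := by
      refine flat_of_localization hinj fun p hp Op _ _ _ _ _ _ _ _ _ hloc hOpL =>
        hI y Op Y'.functionField hinjA hOpL ?_ ⟨k, hkκ⟩
      have hψflat : Flat (Spec.map (CommRingCat.ofHom (algebraMap Γ(Y', V) Op))) := by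
        rw [HasRingHomProperty.Spec_iff (P := @Flat)]
        exact RingHom.flat_algebraMap_iff.mpr (IsLocalization.flat Op p.primeCompl)
      have h1 := isEffCartier_comap_of_flat (Spec.map (CommRingCat.ofHom (algebraMap Γ(Y', V) Op)) ≫ hV.fromSpec)
        (isEffCartier_factor b t 𝓘 hb.1 y hyt)
      have e : (Spec.map (CommRingCat.ofHom (algebraMap Γ(Y', V) Op)) ≫ hV.fromSpec) ≫ b =
          Spec.map (CommRingCat.ofHom (algebraMap Γ(Y, W y) Op)) ≫ (hW y).fromSpec := by
        rw [Category.assoc, ← IsAffineOpen.SpecMap_appLE_fromSpec b (hW y) hV hVle, ← Spec.map_comp_assoc,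
          IsScalarTower.algebraMap_eq Γ(Y, W y) Γ(Y', V) Op, CommRingCat.ofHom_comp]
        rfl
      rw [← Scheme.IdealSheafData.comap_comp, e, Scheme.IdealSheafData.comap_comp,
        comap_imageOfClosed (hW y) (I y)] at h1
      erw [comap_specIdeal] at h1
      obtain ⟨gen, hgen, hgenI⟩ := exists_generator_of_isEffCartier h1
      exact ⟨gen, nonZeroDivisors.ne_zero hgen, hgenI⟩
    refine ⟨pullback r j, pullback.fst r j, inferInstance, ?_, ?_⟩
    · rw [Scheme.Pullback.range_fst]
      exact hjrange _ hk hyV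
    · haveI := hflat
      exact flat_piece (O := Γ(Y', V)) (pullback.snd f b) g.ker j hV.fromSpec hjs _ hjker
  choose Z j hj hxj hflatj using key
  let 𝒰 : g.image.OpenCover :=
    { I₀ := ↥(g.image), X := Z, f := j
      mem₀ := by
        rw [Scheme.presieve₀_mem_precoverage_iff]
        exact ⟨fun x => ⟨x, hxj x⟩, hj⟩ }
  exact (IsZariskiLocalAtSource.iff_of_openCover (P := @Flat) 𝒰).mpr hflatj

end FlatModifLib
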