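import Mathlib
import Groth.Agent.FlatModifLib.Main
import Groth.Agent.DescLib.Family
import Groth.Agent.EtShLib.SplitFinite
import Groth.Agent.DevissLib.ClosedImm

/-!
# Flat nil-immersions after a proper surjective base change of a Noetherian base
-/

set_option autoImplicit false

universe u

open CategoryTheory CategoryTheory.Limits AlgebraicGeometry

noncomputable section

namespace FlatModifLib

theorem exists_flat_nilImmersion {X Y : Scheme.{u}} [IsNoetherian Y] (f : X ⟶ Y)
    [LocallyOfFiniteType f] [QuasiCompact f] [UniversallyOpen f] :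
    ∃ (Y' : Scheme.{u}) (q : Y' ⟶ Y) (X' : Scheme.{u}) (r : X' ⟶ pullback f q), IsProper q ∧ Surjective q ∧
      LocallyOfFinitePresentation q ∧ IsClosedImmersion r ∧ Surjective r ∧ Flat (r ≫ pullback.snd f q) ∧
      LocallyOfFinitePresentation (r ≫ pullback.snd f q) := by
  classical
  -- components
  let κ : Type u := {T : Set Y // T ∈ irreducibleComponents Y}
  haveI : Finite κ := (TopologicalSpace.NoetherianSpace.finite_irreducibleComponents (α := Y)).to_subtype
  have hcomp : ∀ k : κ, ∃ (Z : Scheme.{u}) (i : Z ⟶ Y), IsClosedImmersion i ∧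
      AlgebraicGeometry.IsIntegral Z ∧ Set.range ⇑i = k.1 := fun k =>
    DevissLib.exists_integral_closed (isClosed_of_mem_irreducibleComponents k.1 k.2) k.2.1
  choose Z i hi hZ hrange using hcomp
  haveI := hi
  haveI := hZ
  haveI : ∀ k, IsNoetherian (Z k) := fun k => ConsLib.isNoetherian_of_ft (i k)
  choose Y' q X' r hq hqs hqf hrc hrs hrflat hrlfp using fun k => exists_flat_modification (pullback.snd f (i k))
  haveI := hq
  haveI := hrc
  haveI := hrs
  let qq : (∐ Y') ⟶ Y := Sigma.desc fun k => q k ≫ i k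
  -- proper
  haveI hqq : IsProper qq := by
    have e : qq = Limits.Sigma.map (fun k => q k ≫ i k) ≫ Sigma.desc fun _ : κ => 𝟙 Y :=
      Sigma.hom_ext _ _ fun k => by simp [qq]
    haveI h1 : IsProper (Limits.Sigma.map (fun k => q k ≫ i k)) :=
      DescLib.property_sigmaMap @IsProper _ fun k => inferInstance
    haveI := Groth.Agent.EtShLib.isFinite_fold (κ := κ) Y
    rw [e]
    infer_instance
  haveI : Surjective qq := ⟨fun y => by
    let k : κ := ⟨irreducibleComponent y, irreducibleComponent_mem_irreducibleComponents y⟩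
    obtain ⟨z, hz⟩ := (hrange k).ge (show y ∈ k.1 from mem_irreducibleComponent)
    obtain ⟨w, rfl⟩ := (hqs k).surj z
    exact ⟨Sigma.ι Y' k w, by rw [← Scheme.Hom.comp_apply, Sigma.ι_desc]; exact hz⟩⟩
  -- the comparison with the components
  let e : ∀ k, pullback (pullback.snd f (i k)) (q k) ≅ pullback f (q k ≫ i k) := fun k =>
    pullbackLeftPullbackSndIso f (i k) (q k)
  have hsq := DescLib.isPullback_sigma (π := f) (fun k => q k ≫ i k) (fun k => pullback.fst f (q k ≫ i k))
    (fun k => pullback.snd f (q k ≫ i k)) (fun k => IsPullback.of_hasPullback _ _)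
  let R : (∐ X') ⟶ pullback f qq := Limits.Sigma.map (fun k => r k ≫ (e k).hom) ≫ hsq.isoPullback.hom
  haveI : IsClosedImmersion (Limits.Sigma.map (fun k => r k ≫ (e k).hom)) :=
    DescLib.property_sigmaMap @IsClosedImmersion _ fun k => inferInstance
  haveI : Surjective (Limits.Sigma.map (fun k => r k ≫ (e k).hom)) :=
    DescLib.property_sigmaMap @Surjective _ fun k => inferInstance
  have hR : R ≫ pullback.snd f qq = Limits.Sigma.map (fun k => r k ≫ pullback.snd (pullback.snd f (i k)) (q k)) := by
    simp only [R, Category.assoc, IsPullback.isoPullback_hom_snd]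
    refine Sigma.hom_ext _ _ fun k => ?_
    simp only [Sigma.ι_map_assoc, Sigma.ι_map, Category.assoc, e]
    erw [hsq.isoPullback_hom_snd, Sigma.ι_map, reassoc_of% pullbackLeftPullbackSndIso_hom_snd]
  haveI : IsLocallyNoetherian (∐ Y' : Scheme.{u}) := LocallyOfFiniteType.isLocallyNoetherian qq
  refine ⟨∐ Y', qq, ∐ X', R, hqq, inferInstance, inferInstance, inferInstance, inferInstance, ?_, ?_⟩
  · rw [hR]
    exact DescLib.property_sigmaMap @Flat _ hrflat
  · rw [hR]
    exact DescLib.property_sigmaMap @LocallyOfFinitePresentation _ hrlfp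

/-- Base change of a flat nil-immersion after a proper surjective base change. -/
theorem nilImmersion_baseChange {X Y X₀ Y₀ : Scheme.{u}} {f : X ⟶ Y} {f₀ : X₀ ⟶ Y₀} {m : Y ⟶ Y₀} {mX : X ⟶ X₀}
    (sq : IsPullback mX f f₀ m)
    (h : ∃ (Y' : Scheme.{u}) (q : Y' ⟶ Y₀) (X' : Scheme.{u}) (r : X' ⟶ pullback f₀ q), IsProper q ∧ Surjective q ∧
      LocallyOfFinitePresentation q ∧ IsClosedImmersion r ∧ Surjective r ∧ Flat (r ≫ pullback.snd f₀ q) ∧
      LocallyOfFinitePresentation (r ≫ pullback.snd f₀ q)) :
    ∃ (Y' : Scheme.{u}) (q : Y' ⟶ Y) (X' : Scheme.{u}) (r : X' ⟶ pullback f q), IsProper q ∧ Surjective q ∧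
      LocallyOfFinitePresentation q ∧ IsClosedImmersion r ∧ Surjective r ∧ Flat (r ≫ pullback.snd f q) ∧
      LocallyOfFinitePresentation (r ≫ pullback.snd f q) := by
  obtain ⟨Y', q₀, X', r₀, h1, h2, h3, h4, h5, h6, h7⟩ := h
  let q := pullback.fst m q₀
  let μ : pullback f q ⟶ pullback f₀ q₀ := pullback.lift (pullback.fst f q ≫ mX)
    (pullback.snd f q ≫ pullback.snd m q₀) (by
      rw [Category.assoc, sq.w, ← Category.assoc, pullback.condition, Category.assoc, Category.assoc]
      congr 1
      exact pullback.condition)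
  have hμ : IsPullback μ (pullback.snd f q) (pullback.snd f₀ q₀) (pullback.snd m q₀) := by
    refine IsPullback.of_right ?_ (pullback.lift_snd _ _ _) (IsPullback.of_hasPullback f₀ q₀)
    rw [show μ ≫ pullback.fst f₀ q₀ = _ from pullback.lift_fst _ _ _, ← pullback.condition]
    exact (IsPullback.of_hasPullback f q).paste_horiz sq
  have hbig := (IsPullback.of_hasPullback r₀ μ).paste_vert hμ.flip.flip
  exact ⟨pullback m q₀, q, pullback r₀ μ, pullback.snd r₀ μ, MorphismProperty.pullback_fst _ _ h1,
    MorphismProperty.pullback_fst _ _ h2, MorphismProperty.pullback_fst _ _ h3,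
    MorphismProperty.pullback_snd _ _ h4, MorphismProperty.pullback_snd _ _ h5,
    MorphismProperty.of_isPullback hbig h6, MorphismProperty.of_isPullback hbig h7⟩

end FlatModifLib
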